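import Cfsg.Agent.Lib.OneTwoLocal.Embedded
import Cfsg.Agent.Lib.BenderQ.Classify

/-!
# One class of maximal 2-local subgroups: the classification, from Bender's theorem

The kernel theorem and the classification of split rank one groups identify a simple group with
one class of maximal 2-local subgroups.
-/

set_option autoImplicit false

namespace CfsgLib.OneTwoLocal

open CfsgLib.BenderQ

universe u

/-- A simple group with one class of maximal 2-local subgroups is of Bender type. -/
theorem classify (hB : BenderKernel.{u}) (hR : RankOneClass.{u}) {G : Type u} [Group G] [Finite G]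
    [IsSimpleGroup G] (hG : ¬ IsMulCommutative G)
    (h1 : ∀ M M' : Subgroup G, Cfsg.IsMaximalTwoLocal M → Cfsg.IsMaximalTwoLocal M' →
      ∃ g : G, M' = M.map (MulAut.conj g).toMonoidHom) :
    (∃ (F : Type) (_ : Field F) (_ : Fintype F) (n : ℕ), 2 ≤ n ∧ Fintype.card F = 2 ^ n ∧
        Nonempty (G ≃* Matrix.ProjectiveSpecialLinearGroup (Fin 2) F)) ∨
      Cfsg.Lie.IsoSuzuki G ∨
      (∃ (F : Type) (_ : Field F) (_ : Fintype F) (n : ℕ), 2 ≤ n ∧ Fintype.card F = (2 ^ n) ^ 2 ∧
        Nonempty (G ≃* Cfsg.PSU 3 F (2 ^ n))) := by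
  obtain ⟨H, hH⟩ := exists_stronglyEmbedded hG h1
  rcases simple_isBenderType hB hR (exists_noncomm hG) hH with
    ⟨F, i1, i2, ⟨n, hn, hF⟩, hf⟩ | h | h
  · exact Or.inl ⟨F, i1, i2, n, hn, hF, hf⟩
  · exact Or.inr (Or.inl h)
  · exact Or.inr (Or.inr h)

end CfsgLib.OneTwoLocal
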