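import Mathlib
import Cfsg.Prelude.Def_CaseTheorems
import Cfsg.Prelude.Def_Involutions
import Cfsg.Agent.Lib.PCore.Basic
import Cfsg.Agent.S0205

/-!
# One class of maximal 2-local subgroups gives a strongly embedded subgroup

In a non-abelian simple group in which all maximal 2-local subgroups are conjugate every nontrivial
2-subgroup lies in exactly one maximal 2-local subgroup, so each of these is strongly embedded.
-/

set_option autoImplicit false
set_option linter.style.haveILetI false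
set_option linter.unusedSectionVars false

namespace CfsgLib.OneTwoLocal

open Subgroup

variable {G : Type*} [Group G] [Finite G]

/-- The conjugate `g M g⁻¹`. -/
abbrev cj (g : G) (M : Subgroup G) : Subgroup G := M.map (MulAut.conj g).toMonoidHom

theorem mem_cj {g x : G} {M : Subgroup G} : x ∈ cj g M ↔ g⁻¹ * x * g ∈ M := by
  constructor
  · rintro ⟨m, hm, rfl⟩
    have : g⁻¹ * ((MulAut.conj g).toMonoidHom m) * g = m := by
      show g⁻¹ * (g * m * g⁻¹) * g = m
      group
    rwa [this]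
  · intro h
    refine ⟨_, h, ?_⟩
    show g * (g⁻¹ * x * g) * g⁻¹ = x
    group

theorem isTwoLocal_cj {N : Subgroup G} (h : Cfsg.IsTwoLocal N) (g : G) : Cfsg.IsTwoLocal (cj g N) := by
  obtain ⟨T, hT, hne, rfl⟩ := h
  refine ⟨cj g T, hT.map _, fun e => hne ?_, ?_⟩
  · exact (Subgroup.map_eq_bot_iff_of_injective T (MulAut.conj g).injective).1 e
  · ext x
    rw [mem_cj, mem_normalizer_iff, mem_normalizer_iff]
    constructor
    · intro hx y
      have h1 := hx (g⁻¹ * y * g)
      rw [mem_cj, mem_cj]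
      convert h1 using 2
      group
    · intro hx y
      have h1 := hx (g * y * g⁻¹)
      rw [mem_cj, mem_cj] at h1
      convert h1 using 2 <;> group

theorem exists_maximal_local {T : Subgroup G} (hT : IsPGroup 2 T) (hne : T ≠ ⊥) :
    ∃ M, normalizer (T : Set G) ≤ M ∧ Cfsg.IsMaximalTwoLocal M := by
  obtain ⟨M, hle, hM, hmax⟩ :=
    Finite.exists_le_maximal (p := fun N : Subgroup G => Cfsg.IsTwoLocal N) ⟨T, hT, hne, rfl⟩
  exact ⟨M, hle, hM, fun N hN hMN => le_antisymm (hmax hN hMN) hMN⟩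

theorem isMaximal_cj {M : Subgroup G} (h : Cfsg.IsMaximalTwoLocal M) (g : G) :
    Cfsg.IsMaximalTwoLocal (cj g M) := by
  refine ⟨isTwoLocal_cj h.1 g, fun N hN hle => ?_⟩
  have hle' : M ≤ cj g⁻¹ N := fun m hm => by
    rw [mem_cj, inv_inv]
    exact hle (mem_map_of_mem _ hm)
  rw [← h.2 _ (isTwoLocal_cj hN g⁻¹) hle']
  ext x
  rw [mem_cj, mem_cj, inv_inv]
  constructor <;> intro hx <;> convert hx using 1 <;> group

theorem even_card [IsSimpleGroup G] (hG : ¬ IsMulCommutative G) : Even (Nat.card G) := by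
  by_contra h
  haveI : Group.IsSolvable G := Cfsg.Agent.S0205.result (Nat.not_even_iff_odd.1 h)
  exact hG ⟨⟨fun a b => (IsSimpleGroup.comm_iff_isSolvable.2 inferInstance) a b⟩⟩

theorem not_isPGroup [IsSimpleGroup G] (hG : ¬ IsMulCommutative G) {p : ℕ} [Fact p.Prime] :
    ¬ IsPGroup p G := fun h => by
  haveI := h.isNilpotent
  exact hG ⟨⟨fun a b => (IsSimpleGroup.comm_iff_isSolvable.2 inferInstance) a b⟩⟩

theorem ne_top_of_maximal [IsSimpleGroup G] (hG : ¬ IsMulCommutative G) {M : Subgroup G}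
    (hM : Cfsg.IsMaximalTwoLocal M) : M ≠ ⊤ := by
  haveI : Fact (Nat.Prime 2) := ⟨Nat.prime_two⟩
  obtain ⟨T, hT, hne, rfl⟩ := hM.1
  intro htop
  rcases (Subgroup.normalizer_eq_top_iff.1 htop).eq_bot_or_eq_top with h | h
  · exact hne h
  · exact not_isPGroup hG (IsPGroup.of_equiv hT ((MulEquiv.subgroupCongr h).trans Subgroup.topEquiv))

/-- A maximal 2-local subgroup is its own normalizer. -/
theorem mem_of_cj_eq {M : Subgroup G} (hM : Cfsg.IsMaximalTwoLocal M) {g : G} (h : cj g M = M) :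
    g ∈ M := by
  haveI : Fact (Nat.Prime 2) := ⟨Nat.prime_two⟩
  obtain ⟨T, hT, hne, hMT⟩ := hM.1
  have hTM : T ≤ M := hMT ▸ Subgroup.le_normalizer
  have hTn : (T.subgroupOf M).Normal :=
    normal_subgroupOf_of_le_normalizer (le_of_eq hMT)
  let R : Subgroup G := (Cfsg.pCore 2 ↥M).map M.subtype
  have hRp : IsPGroup 2 R := (CfsgLib.PCore.pCore_isPGroup (p := 2) (G := ↥M)).map _
  have hTR : T ≤ R := fun t ht =>
    ⟨⟨t, hTM ht⟩, CfsgLib.PCore.le_pCore (p := 2) hTn (hT.comap_of_injective _ M.subtype_injective) (mem_subgroupOf.2 ht), rfl⟩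
  have hRM : R ≤ M := map_subtype_le _
  have hMR : M ≤ normalizer (R : Set G) := by
    intro m hm
    rw [mem_normalizer_iff]
    haveI : (Cfsg.pCore 2 ↥M).Normal := Cfsg.pCore_normal 2 _
    intro n
    constructor
    · rintro ⟨y, hy, rfl⟩
      exact ⟨⟨m, hm⟩ * y * ⟨m, hm⟩⁻¹, Normal.conj_mem inferInstance y hy _, rfl⟩
    · rintro ⟨y, hy, he⟩
      refine ⟨⟨m, hm⟩⁻¹ * y * ⟨m, hm⟩, ?_, ?_⟩
      · simpa using Normal.conj_mem inferInstance y hy (⟨m, hm⟩⁻¹ : M)
      · have : (y : G) = m * n * m⁻¹ := he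
        simp [this, mul_assoc]
  have hR : normalizer (R : Set G) = M :=
    hM.2 _ ⟨R, hRp, fun e => hne (le_bot_iff.1 (e ▸ hTR)), rfl⟩ hMR
  have hcR : cj g R ≤ M := h ▸ Subgroup.map_mono hRM
  have hn : ((cj g R).subgroupOf M).Normal := by
    refine ⟨fun y hy m => mem_subgroupOf.2 (mem_cj.2 ?_)⟩
    have hm : g⁻¹ * (m : G) * g ∈ M := mem_cj.1 (h.symm ▸ m.2)
    have h2 := (mem_normalizer_iff.1 (hMR hm) _).1 (mem_cj.1 (mem_subgroupOf.1 hy))
    convert h2 using 1
    push_cast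
    group
  have hle : cj g R ≤ R := fun x hx =>
    ⟨⟨x, hcR hx⟩, CfsgLib.PCore.le_pCore (p := 2) hn
      ((hRp.map _).comap_of_injective _ M.subtype_injective) (mem_subgroupOf.2 hx), rfl⟩
  have heq : cj g R = R := eq_of_le_of_card_ge hle
    (card_map_of_injective (MulAut.conj g).injective).ge
  refine hR ▸ (mem_normalizer_iff.2 fun x => ?_)
  conv_rhs => rw [← heq, mem_cj]
  rw [show g⁻¹ * (g * x * g⁻¹) * g = x by group]

variable [IsSimpleGroup G] (hG : ¬ IsMulCommutative G)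
  (h1 : ∀ M M' : Subgroup G, Cfsg.IsMaximalTwoLocal M → Cfsg.IsMaximalTwoLocal M' →
    ∃ g : G, M' = M.map (MulAut.conj g).toMonoidHom)

include hG in
theorem exists_sylow_le_maximal (S : Sylow 2 G) :
    ∃ M, Cfsg.IsMaximalTwoLocal M ∧ normalizer ((S : Subgroup G) : Set G) ≤ M := by
  haveI : Fact (Nat.Prime 2) := ⟨Nat.prime_two⟩
  have hne : (S : Subgroup G) ≠ ⊥ := S.ne_bot_of_dvd_card (even_card hG).two_dvd
  obtain ⟨M, hle, hM⟩ := exists_maximal_local S.isPGroup' hne
  exact ⟨M, hM, hle⟩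

include hG h1 in
theorem sylow_of_maximal {M D : Subgroup G} (hM : Cfsg.IsMaximalTwoLocal M) (hD : IsPGroup 2 D)
    (hDM : D ≤ M) : ∃ P : Sylow 2 G, D ≤ P ∧ (P : Subgroup G) ≤ M := by
  haveI : Fact (Nat.Prime 2) := ⟨Nat.prime_two⟩
  obtain ⟨M₀, hM₀, hS⟩ := exists_sylow_le_maximal hG (default : Sylow 2 G)
  obtain ⟨g, rfl⟩ := h1 M₀ M hM₀ hM
  set S₁ : Sylow 2 G := g • (default : Sylow 2 G) with hS₁
  have hSM : (S₁ : Subgroup G) ≤ cj g M₀ := by
    intro x hx
    rw [mem_cj]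
    refine hS (Subgroup.le_normalizer ?_)
    rw [hS₁, Sylow.coe_subgroup_smul, Subgroup.mem_pointwise_smul_iff_inv_smul_mem] at hx
    simpa [MulAut.smul_def] using hx
  obtain ⟨Q, hQ⟩ := (hD.comap_of_injective (cj g M₀).subtype
    (cj g M₀).subtype_injective).exists_le_sylow
  obtain ⟨m, hm⟩ := MulAction.exists_smul_eq ↥(cj g M₀) (S₁.subtype hSM) Q
  rw [Sylow.smul_subtype] at hm
  refine ⟨m • S₁, fun x hx => ?_, Sylow.smul_le hSM m⟩
  have hxQ : (⟨x, hDM hx⟩ : ↥(cj g M₀)) ∈ (Q : Subgroup ↥(cj g M₀)) := hQ hx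
  rw [← hm, Sylow.coe_subtype, mem_subgroupOf] at hxQ
  exact hxQ

include hG h1 in
theorem eq_of_sylow_le {M M' : Subgroup G} (hM : Cfsg.IsMaximalTwoLocal M)
    (hM' : Cfsg.IsMaximalTwoLocal M') {S : Sylow 2 G} (hS : (S : Subgroup G) ≤ M)
    (hS' : (S : Subgroup G) ≤ M') : M = M' := by
  haveI : Fact (Nat.Prime 2) := ⟨Nat.prime_two⟩
  obtain ⟨M₀, hM₀, hN⟩ := exists_sylow_le_maximal hG S
  suffices key : ∀ X, Cfsg.IsMaximalTwoLocal X → (S : Subgroup G) ≤ X → X = M₀ from
    (key M hM hS).trans (key M' hM' hS').symm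
  intro X hX hSX
  obtain ⟨g, rfl⟩ := h1 M₀ X hM₀ hX
  have hgS : ((g • S : Sylow 2 G) : Subgroup G) ≤ cj g M₀ := by
    intro x hx
    rw [mem_cj]
    refine hN (Subgroup.le_normalizer ?_)
    rw [Sylow.coe_subgroup_smul, Subgroup.mem_pointwise_smul_iff_inv_smul_mem] at hx
    simpa [MulAut.smul_def] using hx
  obtain ⟨m, hm⟩ := MulAction.exists_smul_eq ↥(cj g M₀) ((g • S).subtype hgS) (S.subtype hSX)
  have hmS : ((m : G) * g) • S = S := by
    rw [Sylow.smul_subtype] at hm
    rw [mul_smul]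
    exact Sylow.subtype_injective hm
  have hk : (m : G) * g ∈ M₀ := hN (Sylow.smul_eq_iff_mem_normalizer.1 hmS)
  ext x
  constructor
  · intro hx
    have h3 := mul_mem (mul_mem hk (mem_cj.1 (mul_mem (mul_mem (inv_mem m.2) hx) m.2))) (inv_mem hk)
    convert h3 using 1
    group
  · intro hx
    have h2 := mul_mem (mul_mem (inv_mem hk) hx) hk
    have h4 : (m : G)⁻¹ * x * (m : G) ∈ cj g M₀ := by
      rw [mem_cj]
      convert h2 using 1
      group
    have h3 := mul_mem (mul_mem m.2 h4) (inv_mem m.2)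
    convert h3 using 1
    group

include hG h1 in
theorem eq_of_two_le (D : Subgroup G) : IsPGroup 2 D → D ≠ ⊥ → ∀ M M' : Subgroup G,
    Cfsg.IsMaximalTwoLocal M → Cfsg.IsMaximalTwoLocal M' → D ≤ M → D ≤ M' → M = M' := by
  haveI : Fact (Nat.Prime 2) := ⟨Nat.prime_two⟩
  induction D using WellFoundedGT.induction with
  | ind D ih =>
    intro hD hne M M' hM hM' hDM hDM'
    obtain ⟨P, hDP, hPM⟩ := sylow_of_maximal hG h1 hM hD hDM
    obtain ⟨P', hDP', hPM'⟩ := sylow_of_maximal hG h1 hM' hD hDM'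
    obtain ⟨N, hN, hNmax⟩ := exists_maximal_local hD hne
    -- the normalizer of `D` in a Sylow subgroup properly above it determines the maximal local
    have step : ∀ (X : Subgroup G) (Q : Sylow 2 G), Cfsg.IsMaximalTwoLocal X → D < (Q : Subgroup G) →
        (Q : Subgroup G) ≤ X → X = N := by
      intro X Q hX hlt hQX
      obtain ⟨x, hxQ, hxD⟩ := SetLike.exists_of_lt hlt
      haveI : Group.IsNilpotent ↥(Q : Subgroup G) := Q.isPGroup'.isNilpotent
      have hlt' : D.subgroupOf (Q : Subgroup G) < ⊤ := lt_top_iff_ne_top.2 fun e =>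
        hxD (show (⟨x, hxQ⟩ : ↥(Q : Subgroup G)) ∈ D.subgroupOf (Q : Subgroup G) from e ▸ mem_top _)
      obtain ⟨y, hyn, hyD⟩ := SetLike.exists_of_lt
        (Group.normalizerCondition_of_isNilpotent (D.subgroupOf (Q : Subgroup G)) hlt')
      have hy : (y : G) ∈ (Q : Subgroup G) ⊓ normalizer (D : Set G) := by
        refine ⟨y.2, mem_normalizer_iff.2 fun d => ?_⟩
        constructor
        · exact fun hd => (mem_normalizer_iff.1 hyn ⟨d, hlt.le hd⟩).1 hd
        · intro hd
          have hdQ : d ∈ (Q : Subgroup G) := by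
            have h3 := mul_mem (mul_mem (inv_mem y.2) (hlt.le hd)) y.2
            convert h3 using 1
            group
          exact (mem_normalizer_iff.1 hyn ⟨d, hdQ⟩).2 hd
      have hlt2 : D < (Q : Subgroup G) ⊓ normalizer (D : Set G) :=
        lt_of_le_of_ne (le_inf hlt.le Subgroup.le_normalizer) fun e => hyD (show (y : G) ∈ D by rw [e]; exact hy)
      exact ih _ hlt2 (Q.isPGroup'.to_le inf_le_left) (fun e => hne (le_bot_iff.1 (e ▸ hlt2.le)))
        X N hX hNmax (inf_le_left.trans hQX) (inf_le_right.trans hN)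
    rcases eq_or_lt_of_le hDP with e | hlt
    · exact eq_of_sylow_le hG h1 hM hM' hPM (e ▸ hDM')
    rcases eq_or_lt_of_le hDP' with e | hlt'
    · exact eq_of_sylow_le hG h1 hM hM' (e ▸ hDM) hPM'
    exact (step M P hM hlt hPM).trans (step M' P' hM' hlt' hPM').symm

include hG h1 in
/-- A group with one class of maximal 2-local subgroups has a strongly embedded subgroup. -/
theorem exists_stronglyEmbedded : ∃ H : Subgroup G, Cfsg.IsStronglyEmbedded H := by
  haveI : Fact (Nat.Prime 2) := ⟨Nat.prime_two⟩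
  obtain ⟨M, hM, hS⟩ := exists_sylow_le_maximal hG (default : Sylow 2 G)
  refine ⟨M, ne_top_of_maximal hG hM, ?_, fun g hg => ?_⟩
  · exact even_iff_two_dvd.2 (((default : Sylow 2 G).dvd_card_of_dvd_card (even_card hG).two_dvd).trans
      (Subgroup.card_dvd_of_le (Subgroup.le_normalizer.trans hS)))
  · rw [← Nat.not_even_iff_odd]
    intro heven
    obtain ⟨x, hx⟩ := exists_prime_orderOf_dvd_card' 2 heven.two_dvd
    have hx' : orderOf (x : G) = 2 := (Subgroup.orderOf_coe x).trans hx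
    have hp : IsPGroup 2 ↥(zpowers (x : G)) :=
      IsPGroup.of_card (n := 1) (by rw [Nat.card_zpowers, hx', pow_one])
    have hne : zpowers (x : G) ≠ ⊥ := fun e => by
      rw [zpowers_eq_bot] at e
      rw [e, orderOf_one] at hx'
      omega
    exact hg (mem_of_cj_eq hM (eq_of_two_le hG h1 _ hp hne M (cj g M) hM (isMaximal_cj hM g)
      (zpowers_le.2 x.2.1) (zpowers_le.2 x.2.2)).symm)

end CfsgLib.OneTwoLocal
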